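import Groth.Agent.GrpQuotLib.Kernel
import Groth.Prelude.Def_AlgGrp

/-!
Central extensions with commutative quotient: the commutator pairing with values in the kernel.
-/

set_option autoImplicit false
set_option backward.isDefEq.respectTransparency false
set_option backward.isDefEq.respectTransparency.types false
set_option linter.unusedSectionVars false
set_option linter.style.haveILetI false

universe u

open CategoryTheory CategoryTheory.Limits MonoidalCategory CartesianMonoidalCategory MonObj GrpObj AlgebraicGeometry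

noncomputable section

namespace Groth.Agent.MuExtLib

variable {S : Scheme.{u}} {G E Q : Over S} [GrpObj G] [GrpObj E] [GrpObj Q]

/-- An fppf central extension with commutative quotient. -/
structure CExt (i : G ⟶ E) (q : E ⟶ Q) : Prop where
  monI : IsMonHom i
  monQ : IsMonHom q
  ker : AlgGrp.IsKernel i q
  flat : Flat q.left
  surj : Surjective q.left
  lfp : LocallyOfFinitePresentation q.left
  cent : ∀ (T : Over S) (g : T ⟶ E) (t : T ⟶ G), g * (t ≫ i) = (t ≫ i) * g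
  comm : ∀ (T : Over S) (x y : T ⟶ Q), x * y = y * x

/-- The commutator of `g` and `h` is `t`. -/
def Com (i : G ⟶ E) {T : Over S} (g h : T ⟶ E) (t : T ⟶ G) : Prop :=
  g * h = (t ≫ i) * (h * g)

/-- Covers are epimorphisms. -/
theorem cancel_cover {T T' Y : Over S} (d : T' ⟶ T) [Surjective d.left] [Flat d.left]
    [LocallyOfFinitePresentation d.left] {a b : T ⟶ Y} (h : d ≫ a = d ≫ b) : a = b := by
  haveI := Groth.Agent.SchDesc.IsFpqc.of_locallyOfFinitePresentation d.left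
  haveI : Epi d.left := inferInstance
  exact Over.OverMorphism.ext ((cancel_epi d.left).1 (congrArg CommaMorphism.left h))

variable {i : G ⟶ E} {q : E ⟶ Q} (X : CExt i q) {T T' : Over S}

include X

theorem CExt.comp_eq_one (t : T ⟶ G) : (t ≫ i) ≫ q = 1 := by
  rw [Category.assoc, X.ker.w, ← Category.assoc]
  exact congrArg (· ≫ η[Q]) (toUnit_unique _ (toUnit T))

theorem CExt.inj {s t : T ⟶ G} (h : s ≫ i = t ≫ i) : s = t :=
  X.ker.hom_ext h (toUnit_unique _ _)

theorem CExt.exists_ker {g : T ⟶ E} (h : g ≫ q = 1) : ∃ s : T ⟶ G, s ≫ i = g :=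
  ⟨X.ker.lift g (toUnit T) h, X.ker.lift_fst _ _ _⟩

theorem CExt.exists_com (g h : T ⟶ E) : ∃ t, Com i g h t := by
  haveI := X.monQ
  obtain ⟨s, hs⟩ := X.exists_ker (g := g * h * (h * g)⁻¹) (by
    rw [MonObj.mul_comp, GrpObj.inv_comp, MonObj.mul_comp, MonObj.mul_comp, X.comm _ (g ≫ q) (h ≫ q), mul_inv_cancel])
  exact ⟨s, by rw [Com, hs, inv_mul_cancel_right]⟩

theorem CExt.com_unique {g h : T ⟶ E} {s t : T ⟶ G} (hs : Com i g h s) (ht : Com i g h t) : s = t :=
  X.inj (mul_right_cancel (hs.symm.trans ht))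

theorem CExt.com_comp (c : T' ⟶ T) {g h : T ⟶ E} {t : T ⟶ G} (ht : Com i g h t) :
    Com i (c ≫ g) (c ≫ h) (c ≫ t) := by
  have := congrArg (c ≫ ·) ht
  simp only [MonObj.comp_mul] at this
  rw [Com, Category.assoc]
  exact this

theorem CExt.com_congr_left {g g' h : T ⟶ E} {t : T ⟶ G} (hg : g' ≫ q = g ≫ q) (ht : Com i g h t) :
    Com i g' h t := by
  haveI := X.monQ
  obtain ⟨s, hs⟩ := X.exists_ker (g := g⁻¹ * g') (by rw [MonObj.mul_comp, GrpObj.inv_comp, hg, inv_mul_cancel])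
  have hg' : g' = g * (s ≫ i) := by rw [hs, mul_inv_cancel_left]
  rw [Com] at ht ⊢
  rw [hg', _root_.mul_assoc, ← X.cent, ← _root_.mul_assoc g, ht]
  simp only [_root_.mul_assoc]

theorem CExt.com_mul_left {g g' h : T ⟶ E} {t t' : T ⟶ G} (ht : Com i g h t) (ht' : Com i g' h t') :
    Com i (g * g') h (t * t') := by
  haveI := X.monI
  rw [Com] at ht ht' ⊢
  calc g * g' * h = g * ((t' ≫ i) * (h * g')) := by rw [_root_.mul_assoc, ht']
    _ = (g * (t' ≫ i)) * (h * g') := by rw [_root_.mul_assoc]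
    _ = ((t' ≫ i) * g) * (h * g') := by rw [X.cent]
    _ = (t' ≫ i) * ((g * h) * g') := by simp only [_root_.mul_assoc]
    _ = (t' ≫ i) * (((t ≫ i) * (h * g)) * g') := by rw [ht]
    _ = ((t' ≫ i) * (t ≫ i)) * (h * (g * g')) := by simp only [_root_.mul_assoc]
    _ = ((t ≫ i) * (t' ≫ i)) * (h * (g * g')) := by rw [X.cent _ (t' ≫ i) t]
    _ = _ := by rw [MonObj.mul_comp]

theorem CExt.com_mul_right {g h h' : T ⟶ E} {t t' : T ⟶ G} (ht : Com i g h t) (ht' : Com i g h' t') :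
    Com i g (h * h') (t * t') := by
  haveI := X.monI
  rw [Com] at ht ht' ⊢
  calc g * (h * h') = (g * h) * h' := by rw [_root_.mul_assoc]
    _ = ((t ≫ i) * (h * g)) * h' := by rw [ht]
    _ = (t ≫ i) * (h * (g * h')) := by simp only [_root_.mul_assoc]
    _ = (t ≫ i) * ((h * (t' ≫ i)) * (h' * g)) := by rw [ht', _root_.mul_assoc h (t' ≫ i)]
    _ = (t ≫ i) * (((t' ≫ i) * h) * (h' * g)) := by rw [X.cent]
    _ = ((t ≫ i) * (t' ≫ i)) * ((h * h') * g) := by simp only [_root_.mul_assoc]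
    _ = _ := by rw [MonObj.mul_comp]

theorem CExt.exists_phi (x : T ⟶ Q) (h : T ⟶ E) :
    ∃ t : T ⟶ G, ∀ (T' : Over S) (c : T' ⟶ T) (g : T' ⟶ E), g ≫ q = c ≫ x → Com i g (c ≫ h) (c ≫ t) := by
  haveI := X.flat; haveI := X.surj; haveI := X.lfp
  obtain ⟨T₀, c₀, g₀, hs, hf, hp, e₀⟩ := GrpQuotLib.exists_lift_cover q x
  haveI := hs; haveI := hf; haveI := hp
  haveI := Groth.Agent.SchDesc.IsFpqc.of_locallyOfFinitePresentation c₀.left
  obtain ⟨t₀, ht₀⟩ := X.exists_com g₀ (c₀ ≫ h)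
  let z : T.left ⟶ G.left := EffectiveEpi.desc c₀.left t₀.left fun {Z} a b e => by
    let Z' : Over S := Over.mk (a ≫ T₀.hom)
    let a' : Z' ⟶ T₀ := Over.homMk a rfl
    let b' : Z' ⟶ T₀ := Over.homMk b (by
      show b ≫ T₀.hom = a ≫ T₀.hom
      rw [← Over.w c₀, ← Category.assoc, ← e, Category.assoc])
    have hab : a' ≫ c₀ = b' ≫ c₀ := Over.OverMorphism.ext e
    have h₁ : Com i (b' ≫ g₀) (a' ≫ c₀ ≫ h) (a' ≫ t₀) := X.com_congr_left (by
      rw [Category.assoc, Category.assoc, ← e₀, ← reassoc_of% hab]) (X.com_comp a' ht₀)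
    have h₂ : Com i (b' ≫ g₀) (a' ≫ c₀ ≫ h) (b' ≫ t₀) := by
      rw [reassoc_of% hab]
      exact X.com_comp b' ht₀
    exact congrArg CommaMorphism.left (X.com_unique h₁ h₂)
  have hz : c₀.left ≫ z = t₀.left := EffectiveEpi.fac _ _ _
  let t : T ⟶ G := Over.homMk z ((cancel_epi c₀.left).1 (by rw [reassoc_of% hz, Over.w t₀, Over.w c₀]))
  have ht : c₀ ≫ t = t₀ := Over.OverMorphism.ext hz
  refine ⟨t, fun T₁ c g hg => ?_⟩
  obtain ⟨T₂, d, e, hs', hf', hp', hde⟩ := GrpQuotLib.exists_lift_cover c₀ c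
  haveI := hs'; haveI := hf'; haveI := hp'
  have h₃ : Com i (d ≫ g) (e ≫ c₀ ≫ h) (e ≫ t₀) := X.com_congr_left (by
    rw [Category.assoc, Category.assoc, hg, ← e₀, reassoc_of% hde]) (X.com_comp e ht₀)
  rw [← ht, ← reassoc_of% hde, ← reassoc_of% hde] at h₃
  apply cancel_cover d
  rw [Com] at h₃
  simp only [MonObj.comp_mul, Category.assoc] at h₃ ⊢
  exact h₃

/-- The commutator pairing. -/
def CExt.phi (x : T ⟶ Q) (h : T ⟶ E) : T ⟶ G :=
  (X.exists_phi x h).choose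

theorem CExt.phi_spec (x : T ⟶ Q) (h : T ⟶ E) (c : T' ⟶ T) (g : T' ⟶ E) (hg : g ≫ q = c ≫ x) :
    Com i g (c ≫ h) (c ≫ X.phi x h) :=
  (X.exists_phi x h).choose_spec T' c g hg

theorem CExt.com_phi (g h : T ⟶ E) : Com i g h (X.phi (g ≫ q) h) := by
  have := X.phi_spec (g ≫ q) h (𝟙 T) g (Category.id_comp _).symm
  rwa [Category.id_comp, Category.id_comp] at this

theorem CExt.phi_comp (c : T' ⟶ T) (x : T ⟶ Q) (h : T ⟶ E) :
    c ≫ X.phi x h = X.phi (c ≫ x) (c ≫ h) := by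
  haveI := X.flat; haveI := X.surj; haveI := X.lfp
  obtain ⟨T₂, d, g, hs, hf, hp, e⟩ := GrpQuotLib.exists_lift_cover q (c ≫ x)
  haveI := hs; haveI := hf; haveI := hp
  apply cancel_cover d
  have h₁ := X.phi_spec x h (d ≫ c) g (by rw [Category.assoc, e])
  have h₂ := X.phi_spec (c ≫ x) (c ≫ h) d g e.symm
  rw [Category.assoc, Category.assoc] at h₁
  exact X.com_unique h₁ h₂

theorem CExt.phi_mul_left (x x' : T ⟶ Q) (h : T ⟶ E) : X.phi (x * x') h = X.phi x h * X.phi x' h := by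
  haveI := X.flat; haveI := X.surj; haveI := X.lfp; haveI := X.monQ
  obtain ⟨T₁, d₁, g₁, hs, hf, hp, e₁⟩ := GrpQuotLib.exists_lift_cover q x
  obtain ⟨T₂, d₂, g₂, hs₂, hf₂, hp₂, e₂⟩ := GrpQuotLib.exists_lift_cover q (d₁ ≫ x')
  haveI := hs; haveI := hf; haveI := hp; haveI := hs₂; haveI := hf₂; haveI := hp₂
  haveI : Surjective (d₂ ≫ d₁).left := by rw [Over.comp_left]; infer_instance
  haveI : Flat (d₂ ≫ d₁).left := by rw [Over.comp_left]; infer_instance
  haveI : LocallyOfFinitePresentation (d₂ ≫ d₁).left := by rw [Over.comp_left]; infer_instance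
  apply cancel_cover (d₂ ≫ d₁)
  have a₁ : (d₂ ≫ d₁) ≫ x = (d₂ ≫ g₁) ≫ q := by rw [Category.assoc, e₁, Category.assoc]
  have a₂ : (d₂ ≫ d₁) ≫ x' = g₂ ≫ q := by rw [Category.assoc, e₂]
  rw [MonObj.comp_mul, X.phi_comp, X.phi_comp, X.phi_comp, MonObj.comp_mul, a₁, a₂, ← MonObj.mul_comp]
  exact X.com_unique (X.com_phi _ _) (X.com_mul_left (X.com_phi _ _) (X.com_phi _ _))

theorem CExt.phi_mul_right (x : T ⟶ Q) (h h' : T ⟶ E) : X.phi x (h * h') = X.phi x h * X.phi x h' := by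
  haveI := X.flat; haveI := X.surj; haveI := X.lfp
  obtain ⟨T₁, d, g, hs, hf, hp, e⟩ := GrpQuotLib.exists_lift_cover q x
  haveI := hs; haveI := hf; haveI := hp
  apply cancel_cover d
  rw [MonObj.comp_mul, X.phi_comp, X.phi_comp, X.phi_comp, MonObj.comp_mul, e]
  exact X.com_unique (X.com_phi _ _) (X.com_mul_right (X.com_phi _ _) (X.com_phi _ _))

/-- The pairing as a homomorphism in the quotient variable. -/
def CExt.phiL (h : T ⟶ E) : (T ⟶ Q) →* (T ⟶ G) :=
  MonoidHom.mk' (fun x => X.phi x h) fun x x' => X.phi_mul_left x x' h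

/-- The pairing as a homomorphism in the group variable. -/
def CExt.phiR (x : T ⟶ Q) : (T ⟶ E) →* (T ⟶ G) :=
  MonoidHom.mk' (fun h => X.phi x h) fun h h' => X.phi_mul_right x h h'

theorem CExt.phi_central (x : T ⟶ Q) (h : T ⟶ E) (hh : h ≫ q = 1) : X.phi x h = 1 := by
  haveI := X.flat; haveI := X.surj; haveI := X.lfp; haveI := X.monI
  obtain ⟨s, rfl⟩ := X.exists_ker hh
  obtain ⟨T₁, d, g, hs, hf, hp, e⟩ := GrpQuotLib.exists_lift_cover q x
  haveI := hs; haveI := hf; haveI := hp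
  apply cancel_cover d
  rw [X.phi_comp, e, MonObj.comp_one]
  refine X.com_unique (X.com_phi g (d ≫ s ≫ i)) ?_
  rw [Com, MonObj.one_comp, _root_.one_mul, ← Category.assoc, X.cent]

/-- The quotient map on points. -/
def CExt.qHom (T : Over S) : (T ⟶ E) →* (T ⟶ Q) :=
  haveI := X.monQ
  MonoidHom.mk' (fun g => g ≫ q) fun a b => MonObj.mul_comp a b q

theorem CExt.qHom_apply (g : T ⟶ E) : X.qHom T g = g ≫ q := rfl

end Groth.Agent.MuExtLib
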