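import Groth.Agent.MuExtLib.Com
import Groth.Agent.MuGLLib.Pts
import Groth.Agent.FixedSmooth.GroupLike
import Groth.Agent.Boot.Helpers
import Groth.Agent.FixedSmooth.Props
import Groth.Prelude.Def_Red

/-!
A central extension of `μ_n` by `G_m` is commutative.
-/

set_option autoImplicit false
set_option backward.isDefEq.respectTransparency false
set_option backward.isDefEq.respectTransparency.types false
set_option linter.unusedSectionVars false
set_option linter.style.haveILetI false
set_option maxHeartbeats 1000000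
set_option synthInstance.maxHeartbeats 400000

universe u

open CategoryTheory CategoryTheory.Limits MonoidalCategory CartesianMonoidalCategory MonObj GrpObj AlgebraicGeometry

noncomputable section

attribute [-instance] CategoryTheory.Hom.commGroup

namespace Groth.Agent.MuExtLib

open MuGLLib FixedSmooth

variable {R : Type u} [CommRing R]

/-- The point of a diagonalisable group of a character. -/
def dPt (M : Type) [AddCommGroup M] (D : Type u) [CommRing D] [Algebra R D] :
    (Multiplicative M →* D) ≃* (W R D ⟶ Red.diag R M) :=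
  diagPt R M (CommRingCat.of D)

theorem dPt_comp (M : Type) [AddCommGroup M] {D D' : Type u} [CommRing D] [Algebra R D] [CommRing D'] [Algebra R D']
    (ψ : D →ₐ[R] D') (χ : Multiplicative M →* D) :
    wmap ψ ≫ dPt M D χ = dPt M D' (ψ.toRingHom.toMonoidHom.comp χ) :=
  Over.OverMorphism.ext (diagPt_natural R M (B := CommRingCat.of D) (B' := CommRingCat.of D')
    (CommRingCat.ofHom ψ.toRingHom) ψ.commutes χ)

/-- Points of a diagonalisable group commute. -/
theorem diag_comm (M : Type) [AddCommGroup M] (T : Over (Spec (CommRingCat.of R))) (x y : T ⟶ Red.diag R M) :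
    x * y = y * x := by
  refine FixedSmooth.hom_ext_affine _ _ fun B p w => ?_
  obtain ⟨φ, rfl⟩ := Spec.map_surjective p
  letI : Algebra R B := φ.hom.toAlgebra
  let e : (Multiplicative M →* B) ≃* (Over.mk (Spec.map φ) ⟶ Red.diag R M) := diagPt R M B
  rw [MonObj.comp_mul, MonObj.comp_mul]
  apply e.symm.injective
  rw [map_mul, map_mul, _root_.mul_comm]

/-- The value of a point of the multiplicative group. -/
def gmVal {D : Type u} [CommRing D] [Algebra R D] (t : W R D ⟶ Red.diag R ℤ) : D :=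
  (dPt ℤ D).symm t (Multiplicative.ofAdd 1)

theorem gmVal_mul {D : Type u} [CommRing D] [Algebra R D] (s t : W R D ⟶ Red.diag R ℤ) :
    gmVal (s * t) = gmVal s * gmVal t := by
  rw [gmVal, map_mul]
  rfl

theorem gmVal_one {D : Type u} [CommRing D] [Algebra R D] : gmVal (1 : W R D ⟶ Red.diag R ℤ) = 1 := by
  rw [gmVal, map_one]
  rfl

theorem gmVal_inj {D : Type u} [CommRing D] [Algebra R D] {s t : W R D ⟶ Red.diag R ℤ}
    (h : gmVal s = gmVal t) : s = t :=
  (dPt ℤ D).symm.injective (MonoidHom.ext_mint h)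

theorem gmVal_comp {D D' : Type u} [CommRing D] [Algebra R D] [CommRing D'] [Algebra R D'] (ψ : D →ₐ[R] D')
    (t : W R D ⟶ Red.diag R ℤ) : gmVal (wmap ψ ≫ t) = ψ (gmVal t) := by
  obtain ⟨χ, rfl⟩ := (dPt ℤ D).surjective t
  rw [dPt_comp, gmVal, gmVal, MulEquiv.symm_apply_apply, MulEquiv.symm_apply_apply]
  rfl

theorem gmVal_pow {D : Type u} [CommRing D] [Algebra R D] (s : W R D ⟶ Red.diag R ℤ) (m : ℕ) :
    gmVal (s ^ m) = gmVal s ^ m := by
  induction m with
  | zero => rw [pow_zero, pow_zero, gmVal_one]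
  | succ k ih => rw [pow_succ, pow_succ, gmVal_mul, ih]

/-- A group-like element over a field is a group element. -/
theorem exists_single_of_isGL {Ω : Type u} [Field Ω] {A : Type} [CommGroup A] {w : MonoidAlgebra Ω A}
    (hw : IsGL w) : ∃ k : A, w = MonoidAlgebra.single k 1 := by
  classical
  have h01 : ∀ k, w.coeff k = 0 ∨ w.coeff k = 1 := fun k => IsIdempotentElem.iff_eq_zero_or_one.1 (hw.idem k)
  obtain ⟨k, hk⟩ : ∃ k, w.coeff k ≠ 0 := by
    by_contra h
    simp only [not_exists, not_not] at h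
    have h' := hw.sum_eq_one
    simp only [h, Finset.sum_const_zero] at h'
    exact zero_ne_one h'
  refine ⟨k, ?_⟩
  ext l
  rw [MonoidAlgebra.coeff_single, Finsupp.single_apply]
  split_ifs with h
  · exact h ▸ (h01 k).resolve_left hk
  · have := hw.coeff_mul k l
    rw [if_neg h, (h01 k).resolve_left hk, _root_.one_mul] at this
    exact this

/-- Roots of unity of a field detect the prime-to-characteristic part of a cyclic group. -/
theorem eq_zero_of_roots {Ω : Type u} [Field Ω] [IsAlgClosed Ω] {n : ℕ} [NeZero n] (k : ZMod n)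
    (h1 : ∀ χ : Multiplicative (ZMod n) →* Ω, χ (Multiplicative.ofAdd k) = 1)
    (h2 : (Nat.card (rootsOfUnity n Ω)) • k = 0) : k = 0 := by
  obtain ⟨ζ, hζ⟩ := IsCyclic.exists_generator (α := rootsOfUnity n Ω)
  let m := Nat.card (rootsOfUnity n Ω)
  have hm : orderOf ζ = m := orderOf_eq_card_of_forall_mem_zpowers hζ
  have hprim : IsPrimitiveRoot (((ζ : Ωˣ) : Ω)) m := by
    rw [← hm, ← orderOf_injective (rootsOfUnity n Ω).subtype Subtype.val_injective ζ, ← orderOf_units]
    exact IsPrimitiveRoot.orderOf _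
  have hmn : m ∣ n := by
    rw [← hm]
    exact orderOf_dvd_of_pow_eq_one (Subtype.ext ((mem_rootsOfUnity _ _).1 ζ.2))
  haveI : NeZero m := ⟨Nat.card_pos.ne'⟩
  have hmne : (m : Ω) ≠ 0 := hprim.neZero'.out
  obtain ⟨r, hr⟩ := hmn
  have hcop : r.Coprime m := by
    by_contra hc
    obtain ⟨l, hl, hlr, hlm⟩ := Nat.Prime.not_coprime_iff_dvd.1 hc
    have hlne : (l : Ω) ≠ 0 := by
      obtain ⟨c, hc'⟩ := hlm
      intro h0
      apply hmne
      rw [hc', Nat.cast_mul, h0, zero_mul]
    haveI : NeZero ((l * m : ℕ) : Ω) := ⟨by rw [Nat.cast_mul]; exact _root_.mul_ne_zero hlne hmne⟩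
    obtain ⟨z, hz⟩ := HasEnoughRootsOfUnity.exists_primitiveRoot Ω (l * m)
    have hdvd : l * m ∣ n := by
      obtain ⟨c, hc'⟩ := hlr
      exact ⟨c, by rw [hr, hc']; ring⟩
    have hzn : z ^ n = 1 := by
      obtain ⟨c, hc'⟩ := hdvd
      rw [hc', pow_mul, hz.pow_eq_one, one_pow]
    haveI : NeZero (l * m) := ⟨_root_.mul_ne_zero hl.ne_zero (NeZero.ne m)⟩
    obtain ⟨zu, hzu⟩ : ∃ zu : rootsOfUnity n Ω, ((zu : Ωˣ) : Ω) = z :=
      ⟨rootsOfUnity.mkOfPowEq z hzn, rootsOfUnity.val_mkOfPowEq_coe z hzn⟩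
    have h3 : z ^ m = 1 := by
      rw [← hzu, ← Units.val_pow_eq_pow_val, ← SubgroupClass.coe_pow, pow_card_eq_one']
      rfl
    have h4 := Nat.le_of_dvd (Nat.pos_of_ne_zero (NeZero.ne m)) (hz.dvd_of_pow_eq_one m h3)
    have h5 := hl.two_le
    nlinarith [Nat.pos_of_ne_zero (NeZero.ne m)]
  obtain ⟨a, rfl⟩ := ZMod.natCast_zmod_val k ▸ (⟨k.val, rfl⟩ : ∃ a : ℕ, (a : ZMod n) = (k.val : ZMod n))
  have hnm : n ∣ m * a := by
    rw [← ZMod.natCast_eq_zero_iff]
    rw [Nat.cast_mul, ← nsmul_eq_mul]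
    exact h2
  have hma : m ∣ a := by
    let χ₀ : Multiplicative (ZMod n) →* rootsOfUnity n Ω :=
      AddMonoidHom.toMultiplicativeLeft (ZMod.lift n ⟨(zmultiplesHom (Additive (rootsOfUnity n Ω))) (Additive.ofMul ζ), by
        apply Additive.toMul.injective
        show ζ ^ ((n : ℤ)) = 1
        rw [zpow_natCast]
        exact Subtype.ext ((mem_rootsOfUnity _ _).1 ζ.2)⟩)
    have h3 := h1 ((Units.coeHom Ω).comp ((rootsOfUnity n Ω).subtype.comp χ₀))
    have h4 : χ₀ (Multiplicative.ofAdd ((a : ℕ) : ZMod n)) = ζ ^ a := by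
      show Additive.toMul (ZMod.lift n _ ((a : ℕ) : ZMod n)) = _
      erw [show (((a : ℕ) : ZMod n)) = (((a : ℤ)) : ZMod n) from (Int.cast_natCast a).symm, ZMod.lift_coe]
      show ζ ^ (a : ℤ) = _
      rw [zpow_natCast]
    change (((χ₀ (Multiplicative.ofAdd ((a : ℕ) : ZMod n))) : Ωˣ) : Ω) = 1 at h3
    rw [h4, SubgroupClass.coe_pow, Units.val_pow_eq_pow_val] at h3
    exact hprim.dvd_of_pow_eq_one a h3
  rw [ZMod.natCast_eq_zero_iff, hr]
  have hra : r ∣ a := hcop.dvd_of_dvd_mul_left (Dvd.dvd.trans ⟨m, by rw [hr]; ring⟩ hnm)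
  exact Nat.Coprime.mul_dvd_of_dvd_of_dvd (Nat.Coprime.symm hcop) hma hra

variable {n : ℕ} [NeZero n] {E : Over (Spec (CommRingCat.of R))} [GrpObj E]
  {i : Red.diag R ℤ ⟶ E} {q : E ⟶ Red.diag R (ZMod n)} (X : CExt i q)

include X

variable {B : Type u} [CommRing B] [Algebra R B]

/-- The pairing against a fixed point is an element of the group algebra. -/
theorem exists_elt (h : W R B ⟶ E) : ∃ w : MonoidAlgebra B (Multiplicative (ZMod n)),
    ∀ {D : Type u} [CommRing D] [Algebra R D] (f : B →ₐ[R] D) (χ : Multiplicative (ZMod n) →* D),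
      gmVal (X.phi (dPt (ZMod n) D χ) (wmap f ≫ h)) = L f.toRingHom χ w := by
  let B₁ := MonoidAlgebra B (Multiplicative (ZMod n))
  let j : B →ₐ[R] B₁ := IsScalarTower.toAlgHom R B B₁
  let x₀ := dPt (R := R) (ZMod n) B₁ (MonoidAlgebra.of B (Multiplicative (ZMod n)))
  refine ⟨gmVal (X.phi x₀ (wmap j ≫ h)), fun {D} _ _ f χ => ?_⟩
  have hc : ∀ r : R, L f.toRingHom χ (algebraMap R B₁ r) = algebraMap R D r := fun r => by
    rw [IsScalarTower.algebraMap_apply R B B₁, MonoidAlgebra.coe_algebraMap, Function.comp_apply,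
      L_single, map_one, _root_.mul_one]
    exact f.commutes r
  let ψ : B₁ →ₐ[R] D := { L f.toRingHom χ with commutes' := hc }
  have h1 : wmap ψ ≫ x₀ = dPt (ZMod n) D χ := by
    rw [dPt_comp]
    exact congrArg _ (L_comp_of f.toRingHom χ)
  have h2 : ψ.comp j = f := AlgHom.ext fun b => by
    show L f.toRingHom χ (algebraMap B B₁ b) = f b
    rw [MonoidAlgebra.coe_algebraMap, Function.comp_apply, L_single, map_one, _root_.mul_one]
    rfl
  rw [show L f.toRingHom χ (gmVal (X.phi x₀ (wmap j ≫ h))) = ψ (gmVal (X.phi x₀ (wmap j ≫ h))) from rfl,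
    ← gmVal_comp, X.phi_comp, h1, ← Category.assoc, wmap_comp, h2]

omit X in
/-- Group-like from multiplicativity. -/
theorem isGL_of {w : MonoidAlgebra B (Multiplicative (ZMod n))}
    (P : ∀ {D : Type u} [CommRing D] [Algebra R D] (f : B →ₐ[R] D),
      ∃ v : (Multiplicative (ZMod n) →* D) →* D, ∀ χ, v χ = L f.toRingHom χ w) : IsGL w := fun {B'} _ f χ χ' => by
  letI : Algebra R B' := (f.comp (algebraMap R B)).toAlgebra
  obtain ⟨v, hv⟩ := P (D := B') ⟨f, fun r => rfl⟩
  refine ⟨?_, ?_⟩
  · have := map_mul v χ χ'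
    rw [hv, hv, hv] at this
    exact this
  · have := map_one v
    rw [hv] at this
    exact this

omit X in
/-- The root of unity of a character. -/
def toRoot (Ω : Type u) [Field Ω] (n : ℕ) [NeZero n] :
    (Multiplicative (ZMod n) →* Ω) →* rootsOfUnity n Ω where
  toFun χ := rootsOfUnity.mkOfPowEq (χ (Multiplicative.ofAdd 1)) (by
    rw [← map_pow, ← ofAdd_nsmul, nsmul_one, ZMod.natCast_self]
    exact map_one χ)
  map_one' := Subtype.ext (Units.ext (by simp))
  map_mul' a b := Subtype.ext (Units.ext (by simp))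

omit X in
theorem toRoot_injective (Ω : Type u) [Field Ω] (n : ℕ) [NeZero n] : Function.Injective (toRoot Ω n) :=
  fun a b hab => MonoidHom.ext fun k => by
    have h1 := congrArg (fun z : rootsOfUnity n Ω => ((z : Ωˣ) : Ω)) hab
    simp [toRoot] at h1
    have : k = Multiplicative.ofAdd (1 : ZMod n) ^ (Multiplicative.toAdd k).val := by
      rw [← ofAdd_nsmul, nsmul_one, ZMod.natCast_zmod_val]
      rfl
    rw [this, map_pow, map_pow, h1]

/-- The root of unity under a point. -/
def rootHom (Ω : Type u) [Field Ω] [Algebra R Ω] : (W R Ω ⟶ E) →* rootsOfUnity n Ω :=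
  (toRoot Ω n).comp ((dPt (R := R) (ZMod n) Ω).symm.toMonoidHom.comp (X.qHom (W R Ω)))

theorem rootHom_ker {Ω : Type u} [Field Ω] [Algebra R Ω] {g : W R Ω ⟶ E} (hg : rootHom X Ω g = 1) :
    g ≫ q = 1 :=
  (dPt (R := R) (ZMod n) Ω).symm.injective (toRoot_injective Ω n (by
    rw [map_one (dPt (R := R) (ZMod n) Ω).symm, map_one (toRoot Ω n)]
    exact hg))

theorem pow_card_comp {Ω : Type u} [Field Ω] [Algebra R Ω] (g : W R Ω ⟶ E) :
    (g ^ Nat.card (rootsOfUnity n Ω)) ≫ q = 1 :=
  rootHom_ker X (by rw [map_pow, pow_card_eq_one'])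

/-- Points over an algebraically closed field commute. -/
theorem commute_of_field {Ω : Type u} [Field Ω] [IsAlgClosed Ω] [Algebra R Ω] (g h : W R Ω ⟶ E) :
    g * h = h * g := by
  refine commutative_of_cyclic_center_quotient (rootHom X Ω) (fun k hk => Subgroup.mem_center_iff.2 fun g => ?_) g h
  obtain ⟨s, rfl⟩ := X.exists_ker (rootHom_ker X (MonoidHom.mem_ker.1 hk))
  exact X.cent _ g s

/-- Lifting points over an algebraically closed field. -/
theorem exists_lift_field {Ω : Type u} [Field Ω] [IsAlgClosed Ω] [Algebra R Ω] (x : W R Ω ⟶ Red.diag R (ZMod n)) :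
    ∃ g : W R Ω ⟶ E, g ≫ q = x := by
  haveI := X.surj; haveI := X.lfp
  let P := pullback x.left q.left
  let p : P ⟶ Spec (CommRingCat.of Ω) := pullback.fst x.left q.left
  haveI : LocallyOfFiniteType p := inferInstance
  haveI : Surjective p := inferInstanceAs (Surjective (pullback.fst x.left q.left))
  haveI : Nonempty P := (Scheme.Hom.surjective p).nonempty
  obtain ⟨c, hc⟩ := Boot.exists_section_of_nonempty p
  refine ⟨Over.homMk (c ≫ pullback.snd x.left q.left) ?_, Over.OverMorphism.ext ?_⟩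
  · rw [← Over.w q, Category.assoc, ← pullback.condition_assoc, reassoc_of% hc, Over.w x]
  · show (c ≫ pullback.snd x.left q.left) ≫ q.left = x.left
    rw [Category.assoc, ← pullback.condition, reassoc_of% hc]

theorem phi_eq_one (x : W R B ⟶ Red.diag R (ZMod n)) (h : W R B ⟶ E) : X.phi x h = 1 := by
  classical
  obtain ⟨w, hw⟩ := exists_elt X h
  have hGL : IsGL w := isGL_of (R := R) fun {D} _ _ f => ⟨
    { toFun := fun χ => gmVal (X.phi (dPt (ZMod n) D χ) (wmap f ≫ h))
      map_one' := by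
        rw [map_one]
        show gmVal (X.phiL (wmap f ≫ h) 1) = 1
        rw [map_one, gmVal_one]
      map_mul' := fun a b => by rw [map_mul, X.phi_mul_left, gmVal_mul] }, fun χ => hw f χ⟩
  have hfield : ∀ {Ω : Type u} [Field Ω] [IsAlgClosed Ω] (f : B →+* Ω),
      MonoidAlgebra.mapRingHom _ f w = 1 := fun {Ω} _ _ f => by
    letI : Algebra R Ω := (f.comp (algebraMap R B)).toAlgebra
    let f' : B →ₐ[R] Ω := ⟨f, fun r => rfl⟩
    obtain ⟨k, hk⟩ := exists_single_of_isGL (hGL.map f)
    have h1 : ∀ χ : Multiplicative (ZMod n) →* Ω, χ k = 1 := fun χ => by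
      obtain ⟨g, hg⟩ := exists_lift_field X (dPt (ZMod n) Ω χ)
      have := hw f' χ
      rw [← hg, show X.phi (g ≫ q) (wmap f' ≫ h) = 1 from X.com_unique (X.com_phi _ _) (by
        haveI := X.monI
        rw [Com, MonObj.one_comp, _root_.one_mul]
        exact commute_of_field X _ _), gmVal_one] at this
      rw [show L f'.toRingHom χ w = L (RingHom.id Ω) χ (MonoidAlgebra.mapRingHom _ f w) from
        L_map f (RingHom.id Ω) χ w, hk, L_single, map_one, _root_.one_mul] at this
      exact this.symm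
    let m := Nat.card (rootsOfUnity n Ω)
    have hy : ((wmap f' ≫ h) ^ m) ≫ q = 1 := pow_card_comp X _
    have h2 : k ^ m = 1 := by
      let C := MonoidAlgebra Ω (Multiplicative (ZMod n))
      let jC : Ω →ₐ[R] C := IsScalarTower.toAlgHom R Ω C
      let χu : Multiplicative (ZMod n) →* C := MonoidAlgebra.of Ω (Multiplicative (ZMod n))
      have h3 : gmVal (X.phi (dPt (ZMod n) C χu) (wmap (jC.comp f') ≫ h)) = MonoidAlgebra.single k 1 := by
        rw [hw, ← hk, ← L_single_of f]
        congr 2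
      have h4 : X.phi (dPt (ZMod n) C χu) (wmap (jC.comp f') ≫ h) ^ m = 1 := by
        rw [← wmap_comp, Category.assoc]
        change X.phiR _ (wmap jC ≫ wmap f' ≫ h) ^ m = 1
        rw [← map_pow, show (wmap jC ≫ wmap f' ≫ h) ^ m = wmap jC ≫ ((wmap f' ≫ h) ^ m) from (MonObj.comp_pow _ _ _).symm]
        refine X.phi_central _ _ ?_
        rw [Category.assoc, hy, MonObj.comp_one]
      have h5 := congrArg gmVal h4
      rw [gmVal_pow, h3, gmVal_one, MonoidAlgebra.single_pow, one_pow, MonoidAlgebra.one_def] at h5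
      exact (MonoidAlgebra.single_left_inj (one_ne_zero (α := Ω))).1 h5
    have hk0 : Multiplicative.toAdd k = 0 :=
      eq_zero_of_roots (Multiplicative.toAdd k) h1 (by rw [← toAdd_pow, h2, toAdd_one])
    rw [hk, show k = 1 from Multiplicative.toAdd.injective hk0]
    rfl
  have hw1 : w = 1 := by
    have hzero : ∀ k, k ≠ 1 → w.coeff k = 0 := fun k hk => by
      refine (hGL.idem k).eq_zero_of_isNilpotent ?_
      rw [nilpotent_iff_mem_prime]
      intro p hp
      let φ : B →+* AlgebraicClosure p.ResidueField :=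
        (algebraMap p.ResidueField _).comp (algebraMap B p.ResidueField)
      have := congrArg (fun z => z.coeff k) (hfield φ)
      simp [MonoidAlgebra.one_def, MonoidAlgebra.coeff_single, Ne.symm hk, φ] at this
      exact this
    ext k
    rw [MonoidAlgebra.one_def, MonoidAlgebra.coeff_single, Finsupp.single_apply]
    split_ifs with h1
    · subst h1
      rw [← hGL.sum_eq_one]
      symm
      exact Finset.sum_eq_single 1 (fun b _ hb => hzero b hb) (fun hb => Finsupp.notMem_support_iff.1 hb)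
    · exact hzero k (Ne.symm h1)
  apply gmVal_inj
  obtain ⟨χ, rfl⟩ := (dPt (R := R) (ZMod n) B).surjective x
  have := hw (AlgHom.id R B) χ
  rw [wmap_id, Category.id_comp, hw1, map_one] at this
  rw [this, gmVal_one]

omit [Algebra R B] in
theorem commute (T : Over (Spec (CommRingCat.of R))) (g h : T ⟶ E) : g * h = h * g := by
  haveI := X.monI
  refine FixedSmooth.hom_ext_affine _ _ fun B p w => ?_
  obtain ⟨φ, rfl⟩ := Spec.map_surjective p
  letI : Algebra R B := φ.hom.toAlgebra
  let g' : W R B ⟶ E := w ≫ g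
  let h' : W R B ⟶ E := w ≫ h
  have h1 : Com i g' h' (X.phi (g' ≫ q) h') := X.com_phi g' h'
  rw [phi_eq_one X, Com, MonObj.one_comp, _root_.one_mul] at h1
  rw [MonObj.comp_mul, MonObj.comp_mul]
  exact h1

end Groth.Agent.MuExtLib
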